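import Cfsg.Agent.H478.Loc.Th
import Cfsg.Agent.KFacts.Baby.RowB
import Cfsg.Agent.BabyM.Instance
import Cfsg.Agent.BabyM.WordsTh
import Cfsg.Agent.S1700

/-!
# S4880, `Loc 7 3` for the Baby Monster (helper478, task 3413): `Th ≤ B`
-/

set_option autoImplicit false

namespace Cfsg.Agent.H478.Loc

open Cfsg Cfsg.Spor Cfsg.Agent.BabyM Cfsg.Agent.MonsterX.WordSub Cfsg.Agent.MonsterX.WordRels

/-- an isomorphic copy of the presented group `Th` -/
theorem th_sub {G : Type} [Group G] (hs : IsTh Cfsg.Spor.Th) (f : Cfsg.Spor.Th.Gen → G) (h : ∀ w ∈ thWs, ev f w = 1)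
    (hne : ∃ x, f x ≠ 1) : ∃ K : Subgroup G, Nonempty (Cfsg.Spor.Th ≃* K) := by
  obtain ⟨K, he, -⟩ := exists_subgroup Cfsg.Spor.Th.edges Cfsg.Spor.Th.extra hs.1 f (by
    rintro r (hr | hr)
    · exact cox_lift _ f (fun x hx => absurd hx (by simp [coxNodes, Cfsg.Spor.Th.edges])) r hr
    · exact lift_extra th_extra f h r hr) hne
  exact ⟨K, he⟩

/-- **task 3413, B** -/
theorem loc_isoB {S : Type*} [Group S] (h : Cfsg.Spor.IsoB S) : Cfsg.Agent.H319.One.Loc 7 3 S := by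
  obtain ⟨e⟩ := Cfsg.Agent.KFacts.Baby.RowB.exists_iso h
  obtain ⟨K, ⟨f⟩⟩ := th_sub Cfsg.Agent.S1700.result WordsTh0.S.gen (WordsTh.rel Instance.all Instance.ok)
    ⟨.a, WordsTh.gen_a⟩
  exact (loc_map Th.loc_th (K.subtype.comp f.toMonoidHom) (K.subtype_injective.comp f.injective)).congr e

end Cfsg.Agent.H478.Loc
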