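import Cfsg.Agent.H319.One.Base
import Cfsg.Agent.H746.MEleven.Final
import Cfsg.Agent.H61.SpAltFb

/-!
# S4880, `Loc 11 5` for the Monster (helper478, task 3414)

`C(x) / ⟨x⟩ ≅ M₁₂` for an element `x` of order 11 commuting with an involution, and `M₁₂ ≥ 11:5`.
-/

set_option autoImplicit false

namespace Cfsg.Agent.H478.Loc

open Cfsg Subgroup Cfsg.Agent.H319.One

/-- lifting a Frobenius group `r : e` from `C(x) / ⟨x⟩` -/
theorem loc_of_quot {G X : Type*} [Group G] [Group X] {r e : ℕ} (hr : r.Prime) (he : 1 < e) {x : G}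
    (hx : orderOf x = r) {C : Type*} [Group C] (j : C →* G)
    (hjx : ∀ c, j c * x = x * j c) (f : C →* X) (hf : Function.Surjective f)
    (hker : ∀ c, f c = 1 ↔ ∃ k : ℤ, j c = x ^ k) (h : Cfsg.Agent.H61.SpAlt.Fb r e X) : Loc r e G := by
  have := Fact.mk hr
  obtain ⟨a, b, k, ha, hb, hab, hk⟩ := h
  obtain ⟨a, rfl⟩ := hf a
  obtain ⟨b, rfl⟩ := hf b
  -- `k` has order `e` modulo `r`
  have hmod : ∀ m : ℕ, ((k : ZMod r) ^ m = 1 ↔ k ^ m % r = 1 % r) := by
    intro m
    rw [← Nat.cast_pow, show (1 : ZMod r) = ((1 : ℕ) : ZMod r) from Nat.cast_one.symm]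
    exact ZMod.natCast_eq_natCast_iff' _ _ _
  have hconj : ∀ m : ℕ, f b ^ m * f a * (f b ^ m)⁻¹ = f a ^ (k ^ m) := by
    intro m
    induction m with
    | zero => simp
    | succ m ih =>
      calc f b ^ (m + 1) * f a * (f b ^ (m + 1))⁻¹ = f b * (f b ^ m * f a * (f b ^ m)⁻¹) * (f b)⁻¹ := by
            rw [pow_succ']; group
        _ = (f b * f a * (f b)⁻¹) ^ (k ^ m) := by rw [ih, conj_pow]
        _ = _ := by rw [hab, ← pow_mul, ← pow_succ']
  have hke : orderOf (k : ZMod r) = e := by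
    have h1 : (k : ZMod r) ^ e = 1 := by
      have h2 := hconj e
      have h3 : f b ^ e = 1 := by rw [← hb]; exact pow_orderOf_eq_one _
      rw [h3, one_mul, inv_one, mul_one] at h2
      have h4 : f a ^ 1 = f a ^ (k ^ e) := by rw [pow_one]; exact h2
      rw [pow_inj_mod, ha] at h4
      exact (hmod e).2 h4.symm
    rw [orderOf_eq_iff (by omega)]
    exact ⟨h1, fun m hm hm0 h2 => hk m hm hm0 ((hmod m).1 h2)⟩
  have hk1 : (k : ZMod r) - 1 ≠ 0 := by
    intro h1
    rw [sub_eq_zero.1 h1, orderOf_one] at hke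
    omega
  have hxz : ∀ m : ℤ, x ^ m = 1 ↔ (m : ZMod r) = 0 := by
    intro m
    rw [← orderOf_dvd_iff_zpow_eq_one, hx, ZMod.intCast_zmod_eq_zero_iff_dvd]
  have hAx : Commute (j a) x := hjx a
  have hBx : Commute (j b) x := hjx b
  -- the relation
  obtain ⟨i, hi⟩ : ∃ i : ℤ, j b * j a * (j b)⁻¹ = x ^ i * j a ^ k := by
    obtain ⟨i, hi⟩ := (hker (b * a * b⁻¹ * (a ^ k)⁻¹)).1 (by
      rw [map_mul, map_mul, map_mul, map_inv, map_inv, map_pow, hab, mul_inv_cancel])
    refine ⟨i, ?_⟩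
    rw [← hi, map_mul, map_mul, map_mul, map_inv, map_inv, map_pow, inv_mul_cancel_right]
  obtain ⟨m, hm⟩ : ∃ m : ℤ, j a ^ r = x ^ m := by
    obtain ⟨m, hm⟩ := (hker (a ^ r)).1 (by rw [map_pow, ← ha, pow_orderOf_eq_one])
    exact ⟨m, by rw [← hm, map_pow]⟩
  have hxr : x ^ r = 1 := by rw [← hx]; exact pow_orderOf_eq_one x
  have har : j a ^ r = 1 := by
    have h1 : j b * j a ^ r * (j b)⁻¹ = j a ^ r := by
      rw [hm, (hBx.zpow_right m).eq, mul_inv_cancel_right]
    rw [← conj_pow, hi, ((hAx.pow_left k).zpow_right i).symm.mul_pow, ← zpow_natCast (x ^ i) r, ← zpow_mul,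
      mul_comm i (r : ℤ), zpow_mul, zpow_natCast, hxr, one_zpow, one_mul, ← pow_mul, mul_comm k r, pow_mul, hm,
      ← zpow_natCast, ← zpow_mul] at h1
    have h2 : x ^ (m * k - m) = 1 := by rw [zpow_sub, h1, mul_inv_cancel]
    rw [hxz] at h2
    push_cast at h2
    have h3 : (m : ZMod r) * ((k : ZMod r) - 1) = 0 := by rw [mul_sub, mul_one]; exact h2
    rcases mul_eq_zero.1 h3 with h4 | h4
    · rw [hm, hxz]; exact h4
    · exact absurd h4 hk1
  obtain ⟨t, ht⟩ : ∃ t : ℤ, ((t : ℤ) : ZMod r) = (i : ZMod r) * ((k : ZMod r) - 1)⁻¹ :=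
    ⟨_, ZMod.intCast_zmod_cast _⟩
  have hfa : f a ≠ 1 := by
    intro h1
    rw [h1, orderOf_one] at ha
    exact hr.one_lt.ne ha
  have hne : ∀ s : ℤ, j a ≠ x ^ s := fun s hs => hfa ((hker a).2 ⟨s, hs⟩)
  have hAt : Commute (j a) (x ^ t) := hAx.zpow_right t
  refine ⟨x, j a * x ^ t, j b, k, hx, ?_, ?_, ?_, hjx b, ?_, hke⟩
  · refine orderOf_eq_prime ?_ ?_
    · rw [hAt.mul_pow, har, one_mul, ← zpow_natCast, ← zpow_mul, mul_comm, zpow_mul, zpow_natCast, hxr, one_zpow]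
    · intro h1
      apply hne (-t)
      rw [zpow_neg]
      exact eq_inv_of_mul_eq_one_left h1
  · exact ((hAx.mul_left ((Commute.refl x).zpow_left t)).eq).symm
  · rintro ⟨s, hs⟩
    replace hs : x ^ s = j a * x ^ t := hs
    apply hne (s - t)
    rw [zpow_sub, hs, mul_inv_cancel_right]
  · have h1 : j b * (j a * x ^ t) * (j b)⁻¹ = (j b * j a * (j b)⁻¹) * x ^ t := by
      calc j b * (j a * x ^ t) * (j b)⁻¹ = j b * j a * (x ^ t * (j b)⁻¹) := by group
        _ = j b * j a * ((j b)⁻¹ * x ^ t) := by rw [(hBx.inv_left.zpow_right t).eq]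
        _ = _ := by group
    rw [h1, hi, hAt.mul_pow, ← zpow_natCast (x ^ t), ← zpow_mul, mul_assoc, ((hAx.pow_left k).zpow_right t).eq,
      ← mul_assoc, ← zpow_add, ((hAx.pow_left k).zpow_right (t * k)).eq]
    congr 1
    have h2 : x ^ (i + t - t * k) = 1 := by
      rw [hxz]
      push_cast
      rw [ht]
      field_simp
      ring
    rw [zpow_sub, mul_inv_eq_one] at h2
    exact h2

open Cfsg.Agent.OrdDiv Cfsg.Agent.BpSpor.MBig Cfsg.Agent.BpSpor.MBigModel Cfsg.Agent.H546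

/-- a simple group of order 95040 -/
theorem m12_of_card (TB : OrderTable.{0})
    (hS : ∀ (X : Type) [Group X] [Finite X] [IsSimpleGroup X], IsKnownSimple' X) {E : Type} [Group E] [Finite E]
    (hs : IsSimpleGroup E) (hc : Nat.card E = 95040) : Nonempty (E ≃* Cfsg.Spor.M12) := by
  have hna : ¬ ∀ a b : E, a * b = b * a := by
    intro h
    let _ : CommGroup E := { (inferInstance : Group E) with mul_comm := h }
    have h3 := IsSimpleGroup.prime_card (α := E)
    rw [hc] at h3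
    exact absurd h3 (by norm_num)
  obtain ⟨g, hg, hr⟩ := exists_real_filter TB (hS E) hna H746.MEleven.valid_l6 (by rw [hc]; decide +kernel)
    (fun n => Nat.beq n 95040) (by rw [hc]; decide)
  rw [H746.MEleven.cands_95040, List.mem_singleton] at hg
  subst hg
  exact hr

/-- **`Loc 11 5` for the model of the Monster** -/
theorem loc_MG (TB : OrderTable.{0}) (hS : ∀ (X : Type) [Group X] [Finite X] [IsSimpleGroup X], IsKnownSimple' X) :
    Loc 11 5 MG := by
  have hfin := finite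
  have hp : Fact (Nat.Prime 11) := ⟨by norm_num⟩
  obtain ⟨x', hx', -⟩ := Cfsg.Agent.MFive.KPair.exists_order chart (by norm_num : Nat.Prime 11) (by decide)
    Cfsg.Agent.BpSpor.MBigCo.orderOf_s11
  have hx0 : orderOf (x' : MG) = 11 := by rw [Subgroup.orderOf_coe, hx']
  have hxz : (x' : MG) * zz = zz * x' := mem_centralizer_singleton_iff.1 x'.2
  generalize (x' : MG) = x at hx0 hxz
  have hxm : x ∈ centralizer ({x} : Set MG) := mem_centralizer_singleton_iff.2 rfl
  have hxn : (zpowers (⟨x, hxm⟩ : ↥(centralizer ({x} : Set MG)))).Normal := by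
    refine ⟨fun n hn c => ?_⟩
    obtain ⟨k, rfl⟩ := mem_zpowers_iff.1 hn
    have h2 : c * (⟨x, hxm⟩ : ↥(centralizer ({x} : Set MG))) = ⟨x, hxm⟩ * c :=
      Subtype.ext (mem_centralizer_singleton_iff.1 c.2)
    have h3 : Commute c (⟨x, hxm⟩ : ↥(centralizer ({x} : Set MG))) := h2
    rw [(h3.zpow_right k).eq, mul_inv_cancel_right]
    exact hn
  obtain ⟨hcard, hsimple⟩ := H746.MEleven.card_cent_good TB hS hx0 orderOf_zz hxz hxm
  have hq : Nat.card (↥(centralizer ({x} : Set MG)) ⧸ zpowers (⟨x, hxm⟩ : ↥(centralizer ({x} : Set MG)))) = 95040 := by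
    have h1 := (zpowers (⟨x, hxm⟩ : ↥(centralizer ({x} : Set MG)))).card_mul_index
    rw [Nat.card_zpowers, ← Subgroup.orderOf_coe, hx0, hcard] at h1
    exact Nat.eq_of_mul_eq_mul_left (by norm_num) h1
  obtain ⟨e⟩ := m12_of_card TB hS hsimple hq
  refine loc_of_quot (C := ↥(centralizer ({x} : Set MG))) (X := Cfsg.Spor.M12) (by norm_num) (by norm_num) hx0
    (Subgroup.subtype _) (fun c => mem_centralizer_singleton_iff.1 c.2)
    (e.toMonoidHom.comp (QuotientGroup.mk' _)) (e.surjective.comp (QuotientGroup.mk'_surjective _)) ?_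
    Cfsg.Agent.H61.SpAlt.fb_M12_eleven
  intro c
  have h1 : (e.toMonoidHom.comp (QuotientGroup.mk' (zpowers (⟨x, hxm⟩ : ↥(centralizer ({x} : Set MG)))))) c = 1 ↔
      c ∈ zpowers (⟨x, hxm⟩ : ↥(centralizer ({x} : Set MG))) := by
    rw [← QuotientGroup.eq_one_iff]
    change e (QuotientGroup.mk' _ c) = 1 ↔ _
    rw [map_eq_one_iff e e.injective]
    rfl
  rw [h1]
  constructor
  · rintro ⟨k, hk⟩
    exact ⟨k, (congrArg Subtype.val hk).symm⟩
  · rintro ⟨k, hk⟩
    exact ⟨k, Subtype.ext hk.symm⟩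

/-- **task 3414** -/
theorem loc_isoM (TB : OrderTable.{0}) (hS : ∀ (X : Type) [Group X] [Finite X] [IsSimpleGroup X], IsKnownSimple' X)
    {S : Type*} [Group S] (h : Cfsg.Spor.IsoM S) : Loc 11 5 S := by
  obtain ⟨e⟩ := h
  obtain ⟨e'⟩ := Cfsg.Agent.MonsterP.Equiv.equiv
  exact (loc_MG TB hS).congr (e.trans e').symm

end Cfsg.Agent.H478.Loc
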