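import Cfsg.Agent.H319.One.Base
import Cfsg.Agent.KFacts.Th.Main

/-!
# S4880, `Loc 7 3` for the Thompson group (helper478, task 3413)

`x = (a b s)³`, `c = (a b s)⁷` in the subgroup `³D₄(2):3`; `y = c z c⁻¹ z⁻¹`, `z` a conjugate of `x` commuting with `x`.
-/

set_option autoImplicit false
set_option maxRecDepth 100000

namespace Cfsg.Agent.H478.Loc

open Cfsg.Agent.H319.One

/-- `Loc` goes up along injective homomorphisms -/
theorem loc_map {p e : ℕ} {S S' : Type*} [Group S] [Group S'] (h : Loc p e S) (f : S →* S')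
    (hf : Function.Injective f) : Loc p e S' := by
  obtain ⟨x, y, c, k, hx, hy, hxy, hn, hc, hk, he⟩ := h
  refine ⟨f x, f y, f c, k, by rw [orderOf_injective f hf, hx], by rw [orderOf_injective f hf, hy],
    by rw [← map_mul, hxy, map_mul], ?_, by rw [← map_mul, hc, map_mul],
    by rw [← map_inv, ← map_mul, ← map_mul, hk, map_pow], he⟩
  rintro ⟨m, hm⟩
  apply hn
  refine ⟨m, hf ?_⟩
  simpa using hm

end Cfsg.Agent.H478.Loc

namespace Cfsg.Agent.H478.Loc.Th

open Cfsg Cfsg.Agent.H319.One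
open Cfsg.Agent.Th.Base Cfsg.Agent.Th.Word Cfsg.Agent.Th.RelWords Cfsg.Agent.Th.PermTab
  Cfsg.Agent.Th.KOracle Cfsg.Agent.Th.KPerm Cfsg.Agent.Th.CStruct Cfsg.Agent.Th.NineAct
  Cfsg.Agent.KFacts.Th.Struct
open Cfsg.Agent.Th.IndexUpper (gTh)

universe u

variable {G : Type u} [Group G] {γ : ℕ → G}

def wx : List ℕ := [1, 2, 6, 1, 2, 6, 1, 2, 6]
def wcc : List ℕ := [1, 2, 6, 1, 2, 6, 1, 2, 6, 1, 2, 6, 1, 2, 6, 1, 2, 6, 1, 2, 6]
def wh : List ℕ := [5, 4, 3, 2, 7, 5, 4, 3, 6, 5, 4, 3, 2, 4, 7, 5, 4, 3, 2, 4, 3, 6, 5]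
def wz : List ℕ := iw wh ++ (wx ++ wh)
def wy : List ℕ := wcc ++ (wz ++ (iw wcc ++ iw wz))

theorem chk_x7 : korc (wx ++ (wx ++ (wx ++ (wx ++ (wx ++ (wx ++ wx)))))) = true := by decide +kernel
theorem chk_y7 : korc (wy ++ (wy ++ (wy ++ (wy ++ (wy ++ (wy ++ wy)))))) = true := by decide +kernel
theorem chk_xy : korc (wx ++ (wy ++ (iw wx ++ iw wy))) = true := by decide +kernel
theorem chk_cx : korc (wcc ++ (wx ++ (iw wcc ++ iw wx))) = true := by decide +kernel
theorem chk_cy : korc (wcc ++ (wy ++ (iw wcc ++ (iw wy ++ iw wy)))) = true := by decide +kernel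

/-- `x ≠ 1` and `y ≠ x ^ i` -/
theorem chk_ne : and (allL isK wx) (and (allL isK wy) (and (!korc wx) (and (!korc wy)
    (and (!korc (wy ++ wx)) (and (!korc (wy ++ (wx ++ wx))) (and (!korc (wy ++ (wx ++ (wx ++ wx))))
    (and (!korc (wy ++ (wx ++ (wx ++ (wx ++ wx))))) (and (!korc (wy ++ (wx ++ (wx ++ (wx ++ (wx ++ wx))))))
    (!korc (wy ++ (wx ++ (wx ++ (wx ++ (wx ++ (wx ++ wx)))))))))))))))  = true := by
  decide +kernel

section

variable (h : Ctx γ)
include h

theorem korc1 {w : List ℕ} (hw : korc w = true) : ev γ w = 1 := korc_sound boundK h.inv h.K hw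

theorem ne_one {w : List ℕ} (hw : allL isK w = true) (hk : korc w = false) : ev γ w ≠ 1 := by
  intro h1
  have hw' := (allL_iff _ _).mp hw
  obtain ⟨φ, hφ, hφw⟩ := exists_hom h.inv h.K h.cardK
  have h2 : ev (rho isTab) w = 1 := by
    rw [← hφw w hw']
    have h3 : (⟨ev γ w, ev_mem_sub hw'⟩ : sub γ isK) = 1 := Subtype.ext h1
    rw [h3, map_one]
  have h5 : ∀ p : Fin 819, tr act w p = p := by
    intro p
    have := ev_rho_inv_apply isTab hw' p
    rw [h2, inv_one, Equiv.Perm.one_apply] at this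
    exact this.symm
  have h4 : korc w = true := by
    rw [korc_iff]
    exact ⟨hw', h5 0, h5 1, h5 39, h5 45⟩
  rw [h4] at hk
  exact absurd hk (by decide)

omit [Group G] h in
theorem allL_append {f : ℕ → Bool} {v w : List ℕ} (hv : allL f v = true) (hw : allL f w = true) :
    allL f (v ++ w) = true := by
  rw [allL_iff] at hv hw ⊢
  intro x hx
  rcases List.mem_append.1 hx with hx | hx
  · exact hv x hx
  · exact hw x hx

theorem comm_of {v w : List ℕ} (hc : korc (v ++ (w ++ (iw v ++ iw w))) = true) : ev γ v * ev γ w = ev γ w * ev γ v := by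
  have h1 := korc1 h hc
  rw [ev_append, ev_append, ev_append, ev_iw h.inv, ev_iw h.inv] at h1
  calc ev γ v * ev γ w = (ev γ v * (ev γ w * ((ev γ v)⁻¹ * (ev γ w)⁻¹))) * (ev γ w * ev γ v) := by group
    _ = ev γ w * ev γ v := by rw [h1, one_mul]

theorem loc : Loc 7 3 G := by
  have hne := chk_ne
  simp only [Bool.and_eq_true, Bool.not_eq_true'] at hne
  obtain ⟨hLx, hLy, n0, m0, m1, m2, m3, m4, m5, m6⟩ := hne
  have hx7 : ev γ wx ^ 7 = 1 := by
    have h1 := korc1 h chk_x7
    simp only [ev_append] at h1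
    rw [← h1]
    simp only [pow_succ, pow_zero, one_mul, mul_assoc]
  have hy7 : ev γ wy ^ 7 = 1 := by
    have h1 := korc1 h chk_y7
    simp only [ev_append] at h1
    rw [← h1]
    simp only [pow_succ, pow_zero, one_mul, mul_assoc]
  have f7 : Fact (Nat.Prime 7) := ⟨by norm_num⟩
  have hxo : orderOf (ev γ wx) = 7 := orderOf_eq_prime hx7 (ne_one h hLx n0)
  have hyo : orderOf (ev γ wy) = 7 := orderOf_eq_prime hy7 (ne_one h hLy m0)
  refine ⟨ev γ wx, ev γ wy, ev γ wcc, 2, hxo, hyo, comm_of h chk_xy, ?_, comm_of h chk_cx, ?_, ?_⟩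
  · rintro ⟨m, hm⟩
    replace hm : ev γ wx ^ m = ev γ wy := hm
    obtain ⟨k, hk7, j, hj⟩ : ∃ k : ℕ, k < 7 ∧ ∃ j : ℤ, m + k = 7 * j := by
      refine ⟨((-m) % 7).toNat, by omega, -((-m) / 7), by omega⟩
    have hk1 : ev γ wy * ev γ wx ^ k = 1 := by
      rw [← hm, ← zpow_natCast, ← zpow_add, hj, zpow_mul, zpow_ofNat, hx7, one_zpow]
    have e1 : ∀ w : List ℕ, ev γ w = 1 → allL isK w = true → korc w = false → False :=
      fun w h1 h2 h3 => ne_one h h2 h3 h1
    have a2 := allL_append hLx hLx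
    have a3 := allL_append hLx a2
    have a4 := allL_append hLx a3
    have a5 := allL_append hLx a4
    have a6 := allL_append hLx a5
    interval_cases k
    · exact e1 wy (by simpa using hk1) hLy m0
    · exact e1 _ (by rw [ev_append, ← hk1, pow_one]) (allL_append hLy hLx) m1
    · exact e1 _ (by simp only [ev_append]; rw [← hk1]; simp only [pow_succ, pow_zero, one_mul, mul_assoc])
        (allL_append hLy a2) m2
    · exact e1 _ (by simp only [ev_append]; rw [← hk1]; simp only [pow_succ, pow_zero, one_mul, mul_assoc])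
        (allL_append hLy a3) m3
    · exact e1 _ (by simp only [ev_append]; rw [← hk1]; simp only [pow_succ, pow_zero, one_mul, mul_assoc])
        (allL_append hLy a4) m4
    · exact e1 _ (by simp only [ev_append]; rw [← hk1]; simp only [pow_succ, pow_zero, one_mul, mul_assoc])
        (allL_append hLy a5) m5
    · exact e1 _ (by simp only [ev_append]; rw [← hk1]; simp only [pow_succ, pow_zero, one_mul, mul_assoc])
        (allL_append hLy a6) m6
  · have h1 := korc1 h chk_cy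
    rw [ev_append, ev_append, ev_append, ev_append, ev_iw h.inv, ev_iw h.inv] at h1
    rw [pow_two]
    calc ev γ wcc * ev γ wy * (ev γ wcc)⁻¹ = (ev γ wcc * (ev γ wy * ((ev γ wcc)⁻¹ * ((ev γ wy)⁻¹ * (ev γ wy)⁻¹)))) *
          (ev γ wy * ev γ wy) := by group
      _ = ev γ wy * ev γ wy := by rw [h1, one_mul]
  · exact orderOf_eq_prime (p := 3) (by decide) (by decide)

end

/-- **`Loc 7 3` for the presented Thompson group** -/
theorem loc_th : Loc 7 3 Spor.Th := loc Cfsg.Agent.KFacts.Th.Main.ctx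

end Cfsg.Agent.H478.Loc.Th

namespace Cfsg.Agent.H478.Loc

/-- **task 3413, Th** -/
theorem loc_isoTh {S : Type*} [Group S] (h : Cfsg.Spor.IsoTh S) : Cfsg.Agent.H319.One.Loc 7 3 S := by
  obtain ⟨e⟩ := h
  exact Th.loc_th.congr e.symm

end Cfsg.Agent.H478.Loc
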